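import Mathlib.AlgebraicGeometry.Modules.Tilde

set_option autoImplicit false
universe u

open CategoryTheory CategoryTheory.Limits AlgebraicGeometry Opposite

namespace Groth.Agent.Lib.Helper55.TildeEpi

variable {R : CommRingCat.{u}}

set_option backward.isDefEq.respectTransparency false in
lemma isIso_counit_app (N : (Spec R).Modules) [N.IsQuasicoherent] :
    IsIso ((Scheme.Modules.fromTildeΓNatTrans (R := R)).app N) := by
  show IsIso N.fromTildeΓ
  infer_instance

lemma tilde_map_Γ_map_eq {M N : (Spec R).Modules} [N.IsQuasicoherent] (φ : M ⟶ N) :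
    (tilde.functor R).map ((moduleSpecΓFunctor (R := R)).map φ) =
      (Scheme.Modules.fromTildeΓNatTrans (R := R)).app M ≫ φ ≫
        @inv _ _ _ _ ((Scheme.Modules.fromTildeΓNatTrans (R := R)).app N) (isIso_counit_app N) := by
  have := isIso_counit_app N
  have h := (Scheme.Modules.fromTildeΓNatTrans (R := R)).naturality φ
  rw [← Category.assoc]
  exact (IsIso.eq_comp_inv _).2 h

lemma epi_Γ_map_of_epi {M N : (Spec R).Modules} [M.IsQuasicoherent] [N.IsQuasicoherent]
    (φ : M ⟶ N) [Epi φ] : Epi ((moduleSpecΓFunctor (R := R)).map φ) := by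
  have := isIso_counit_app N
  have := isIso_counit_app M
  have h2 : Epi ((tilde.functor R).map ((moduleSpecΓFunctor (R := R)).map φ)) := by
    rw [tilde_map_Γ_map_eq]
    infer_instance
  exact (tilde.functor R).epi_of_epi_map h2

lemma mono_Γ_map_of_mono {M N : (Spec R).Modules} [M.IsQuasicoherent] [N.IsQuasicoherent]
    (φ : M ⟶ N) [Mono φ] : Mono ((moduleSpecΓFunctor (R := R)).map φ) := by
  have := isIso_counit_app N
  have := isIso_counit_app M
  have h2 : Mono ((tilde.functor R).map ((moduleSpecΓFunctor (R := R)).map φ)) := by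
    rw [tilde_map_Γ_map_eq]
    infer_instance
  exact (tilde.functor R).mono_of_mono_map h2

end Groth.Agent.Lib.Helper55.TildeEpi
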