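import Mathlib.AlgebraicGeometry.Noetherian
import Mathlib.AlgebraicGeometry.Fiber
import Mathlib.AlgebraicGeometry.Morphisms.Flat
import Mathlib.AlgebraicGeometry.Morphisms.UniversallyOpen
import Mathlib.AlgebraicGeometry.Morphisms.FinitePresentation
import Mathlib.RingTheory.Flat.FaithfullyFlat.Algebra
import Mathlib.RingTheory.Flat.FaithfullyFlat.Basic

set_option autoImplicit false
universe u

namespace Groth.Agent.Lib.Helper55

open TensorProduct

lemma isNoetherianRing_of_faithfullyFlat (A B : Type*) [CommRing A] [CommRing B] [Algebra A B]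
    [Module.FaithfullyFlat A B] [IsNoetherianRing B] : IsNoetherianRing A := by
  have h : IsNoetherian B (B ⊗[A] A) :=
    isNoetherian_of_linearEquiv (Algebra.TensorProduct.rid A B B).symm.toLinearEquiv
  exact Submodule.IsNoetherian.of_isNoetherian_tensorProduct_of_faithfullyFlat h

lemma isNoetherianRing_of_flat_cover {A : Type*} [CommRing A] {K : Type*} [Finite K]
    (B : K → Type*) [∀ k, CommRing (B k)] [∀ k, Algebra A (B k)] [∀ k, Module.Flat A (B k)]
    [∀ k, IsNoetherianRing (B k)]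
    (hsurj : ∀ p : PrimeSpectrum A, ∃ k, ∃ q : PrimeSpectrum (B k),
      q.comap (algebraMap A (B k)) = p) : IsNoetherianRing A := by
  classical
  cases nonempty_fintype K
  have hflat : Module.Flat A (∀ k, B k) :=
    Module.Flat.of_linearEquiv (DFinsupp.linearEquivFunOnFintype (R := A) (M := B)).symm
  have hff : Module.FaithfullyFlat A (∀ k, B k) := by
    apply Module.FaithfullyFlat.of_comap_surjective
    intro p
    obtain ⟨k, q, hq⟩ := hsurj p
    refine ⟨q.comap (Pi.evalRingHom B k), ?_⟩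
    rw [← hq]
    rfl
  exact isNoetherianRing_of_faithfullyFlat A (∀ k, B k)

end Groth.Agent.Lib.Helper55

namespace Groth.Agent.Lib.Helper55

open AlgebraicGeometry CategoryTheory Limits

lemma isLocallyNoetherian_of_flat_surjective_open {W' W : Scheme.{u}} (b : W' ⟶ W) [Flat b]
    [Surjective b] (hopen : IsOpenMap b) [IsLocallyNoetherian W'] : IsLocallyNoetherian W := by
  refine ⟨fun U => ?_⟩
  have h1 : ∀ u : U.1, ∃ V : W'.affineOpens, V.1 ≤ b ⁻¹ᵁ U.1 ∧ (u : W) ∈ b '' (V.1 : Set W') := by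
    intro u
    obtain ⟨w', hw'⟩ := b.surjective u.1
    have hmem : w' ∈ ((b ⁻¹ᵁ U.1 : W'.Opens) : Set W') := by
      show b w' ∈ U.1
      rw [hw']
      exact u.2
    obtain ⟨_, ⟨V, hV, rfl⟩, hxV, hVU⟩ :=
      W'.isBasis_affineOpens.exists_subset_of_mem_open hmem (b ⁻¹ᵁ U.1).2
    exact ⟨⟨V, hV⟩, hVU, w', hxV, hw'⟩
  choose V hVU hV using h1
  have hcompact : IsCompact (U.1 : Set W) := U.2.isCompact
  obtain ⟨t, ht⟩ := hcompact.elim_finite_subcover (fun u : U.1 => b '' ((V u).1 : Set W'))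
    (fun u => hopen _ (V u).1.isOpen) (fun x hx => Set.mem_iUnion.2 ⟨⟨x, hx⟩, hV ⟨x, hx⟩⟩)
  letI : ∀ k : t, Algebra Γ(W, U.1) Γ(W', (V k.1).1) := fun k =>
    (b.appLE U.1 (V k.1).1 (hVU k.1)).hom.toAlgebra
  have hfl : ∀ k : t, Module.Flat Γ(W, U.1) Γ(W', (V k.1).1) := fun k =>
    Flat.flat_appLE b U.2 (V k.1).2 (hVU k.1)
  have hno : ∀ k : t, IsNoetherianRing Γ(W', (V k.1).1) := fun k =>
    IsLocallyNoetherian.component_noetherian (V k.1)
  apply isNoetherianRing_of_flat_cover (fun k : t => Γ(W', (V k.1).1))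
  intro p
  let u : U.1 := U.2.isoSpec.inv p
  have hu : U.2.primeIdealOf u = p := by
    show U.2.isoSpec.hom (U.2.isoSpec.inv p) = p
    rw [← Scheme.Hom.comp_apply, Iso.inv_hom_id]
    rfl
  obtain ⟨k, hk, w', hw'V, hw'⟩ : ∃ k ∈ t, (u : W) ∈ b '' ((V k).1 : Set W') := by
    have := ht u.2
    simpa using this
  refine ⟨⟨k, hk⟩, (V k).2.primeIdealOf ⟨w', hw'V⟩, ?_⟩
  have := IsAffineOpen.comap_primeIdealOf_appLE (f := b) U.1 U.2 (V k).1 (V k).2 (hVU k) hw'V
  have hu' : (⟨b w', hVU k hw'V⟩ : U.1) = u := Subtype.ext hw'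
  rw [← hu, ← hu']
  exact this

end Groth.Agent.Lib.Helper55

namespace Groth.Agent.Lib.Helper55

open AlgebraicGeometry CategoryTheory Limits

lemma isLocallyNoetherian_iff_of_fppf {W' W : Scheme.{u}} (b : W' ⟶ W) [Flat b]
    [LocallyOfFinitePresentation b] [Surjective b] :
    IsLocallyNoetherian W ↔ IsLocallyNoetherian W' := by
  constructor
  · intro h
    exact LocallyOfFiniteType.isLocallyNoetherian b
  · intro h
    exact isLocallyNoetherian_of_flat_surjective_open b b.isOpenMap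

lemma isLocallyNoetherian_iff_of_iso {W' W : Scheme.{u}} (e : W' ≅ W) :
    IsLocallyNoetherian W ↔ IsLocallyNoetherian W' :=
  ⟨fun _ => isLocallyNoetherian_of_isOpenImmersion e.hom,
    fun _ => isLocallyNoetherian_of_isOpenImmersion e.inv⟩

lemma isLocallyNoetherian_fiber_comp_iff {X X' Y : Scheme.{u}} (f : X ⟶ Y) (a : X' ⟶ X) [Flat a]
    [LocallyOfFinitePresentation a] [Surjective a] (y : Y) :
    IsLocallyNoetherian (f.fiber y) ↔ IsLocallyNoetherian ((a ≫ f).fiber y) := by
  have hs : Surjective (pullback.snd a (pullback.fst f (Y.fromSpecResidueField y))) :=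
    MorphismProperty.pullback_snd (P := @Surjective) _ _ inferInstance
  have h1 := isLocallyNoetherian_iff_of_fppf
    (pullback.snd a (pullback.fst f (Y.fromSpecResidueField y)))
  have h2 := isLocallyNoetherian_iff_of_iso
    (pullbackRightPullbackFstIso f (Y.fromSpecResidueField y) a)
  exact h1.trans h2.symm

end Groth.Agent.Lib.Helper55
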