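import Mathlib.AlgebraicGeometry.ResidueField
import Mathlib.RingTheory.LocalRing.ResidueField.Ideal

set_option autoImplicit false
universe u

namespace Groth.Agent.Lib.Helper55

open AlgebraicGeometry CategoryTheory

set_option backward.isDefEq.respectTransparency.types false in
lemma residueFieldMap_SpecMap {R S : CommRingCat.{u}} (φ : R ⟶ S) (q : Spec S) :
    (Scheme.Spec.residueFieldIso R ((Spec.map φ) q)).inv ≫ (Spec.map φ).residueFieldMap q ≫
      (Scheme.Spec.residueFieldIso S q).hom =
    CommRingCat.ofHom (Ideal.ResidueField.map ((Spec.map φ) q).asIdeal q.asIdeal φ.hom rfl) := by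
  apply CommRingCat.hom_ext
  apply Ideal.ResidueField.ringHom_ext
  have key : CommRingCat.ofHom (algebraMap R ((Spec.map φ) q).asIdeal.ResidueField) ≫
      (Scheme.Spec.residueFieldIso R ((Spec.map φ) q)).inv ≫ (Spec.map φ).residueFieldMap q ≫
        (Scheme.Spec.residueFieldIso S q).hom =
      φ ≫ CommRingCat.ofHom (algebraMap S q.asIdeal.ResidueField) := by
    apply Spec.map_injective
    have e1 := Scheme.Hom.SpecMap_residueFieldMap_fromSpecResidueField (f := Spec.map φ) q
    have e2 := Scheme.Spec.map_residueFieldIso_inv_eq_fromSpecResidueField R ((Spec.map φ) q)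
    have e3 := Scheme.Spec.map_residueFieldIso_inv_eq_fromSpecResidueField S q
    simp only [Spec.map_comp]
    rw [Category.assoc, Category.assoc, e2, e1, ← e3, ← Category.assoc,
      ← Category.assoc, ← Spec.map_comp, Iso.inv_hom_id, Spec.map_id, Category.id_comp]
  ext r
  have h1 := congrArg (fun ψ => ψ.hom r) key
  simp only [CommRingCat.hom_comp, CommRingCat.hom_ofHom, RingHom.comp_apply] at h1 ⊢
  rw [h1, Ideal.ResidueField.map_algebraMap]

end Groth.Agent.Lib.Helper55
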