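import Groth.Prelude.Def_Formal

set_option autoImplicit false
universe u

open CategoryTheory CategoryTheory.Limits AlgebraicGeometry Opposite

namespace Groth.Agent.Lib.Helper55.CohFormal

variable {A : Type u} [CommRing A] {X : Scheme.{u}} [X.Over (Spec (CommRingCat.of A))]

lemma smulModΓ_naturality {M N : X.Modules} (φ : M ⟶ N) (r : Coh.Γtop X) :
    Formal.smulModΓ M r ≫ φ = φ ≫ Formal.smulModΓ N r := by
  apply SheafOfModules.hom_ext
  apply PresheafOfModules.hom_ext
  intro U
  ext m
  exact (φ.val.app U).hom.map_smul (Coh.resTop X U r) m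

lemma smulMod_naturality {M N : X.Modules} (φ : M ⟶ N) (a : A) :
    Formal.smulMod A M a ≫ φ = φ ≫ Formal.smulMod A N a :=
  smulModΓ_naturality φ _

lemma smulFamily_comp_eq_zero {J : Ideal A} {M H : X.Modules} (hH : Formal.KilledBy J H)
    (φ : M ⟶ H) : Formal.smulFamily J M ≫ φ = 0 := by
  apply Sigma.hom_ext
  intro a
  rw [comp_zero, ← Category.assoc]
  have : Sigma.ι (fun _ : J => M) a ≫ Formal.smulFamily J M = Formal.smulMod A M (a : A) := by
    simp [Formal.smulFamily]
  rw [this, smulMod_naturality, hH a a.2, comp_zero]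

lemma killedBy_mono {J J' : Ideal A} (h : J' ≤ J) {H : X.Modules} (hH : Formal.KilledBy J H) :
    Formal.KilledBy J' H := fun a ha => hH a (h ha)

variable {I : Ideal A} {F : ℕᵒᵖ ⥤ X.Modules}

lemma epi_succ (hF : Formal.IsCohFormal I F) (n : ℕ) :
    Epi (F.map (homOfLE (Nat.le_succ n)).op) := by
  obtain ⟨h, hiso⟩ := hF.2.2 n
  have : F.map (homOfLE (Nat.le_succ n)).op =
      cokernel.π (Formal.smulFamily (I ^ (n + 1)) (F.obj (op (n + 1)))) ≫ cokernel.desc _ _ h :=
    (cokernel.π_desc _ _ h).symm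
  rw [this]
  infer_instance

lemma epi_tr (hF : Formal.IsCohFormal I F) {n k : ℕ} (h : n ≤ k) :
    Epi (F.map (homOfLE h).op) := by
  induction k, h using Nat.le_induction with
  | base =>
    have : (homOfLE (le_refl n)).op = 𝟙 (op n) := rfl
    rw [this, F.map_id]
    infer_instance
  | succ k hk ih =>
    have : (homOfLE (hk.trans (Nat.le_succ k))).op =
        (homOfLE (Nat.le_succ k)).op ≫ (homOfLE hk).op := rfl
    rw [this, F.map_comp]
    have := epi_succ hF k
    have := ih
    infer_instance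

lemma exists_factor (hF : Formal.IsCohFormal I F) {n k : ℕ} (h : n ≤ k) {H : X.Modules}
    (hH : Formal.KilledBy (I ^ (n + 1)) H) (φ : F.obj (op k) ⟶ H) :
    ∃ ψ : F.obj (op n) ⟶ H, F.map (homOfLE h).op ≫ ψ = φ := by
  induction k, h using Nat.le_induction with
  | base =>
    refine ⟨φ, ?_⟩
    have : (homOfLE (le_refl n)).op = 𝟙 (op n) := rfl
    rw [this, F.map_id, Category.id_comp]
  | succ k hk ih =>
    obtain ⟨h0, hiso⟩ := hF.2.2 k
    have hH' : Formal.KilledBy (I ^ (k + 1)) H :=
      killedBy_mono (Ideal.pow_le_pow_right (by omega)) hH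
    have hφ := smulFamily_comp_eq_zero hH' φ
    obtain ⟨ψ, hψ⟩ := ih (inv (cokernel.desc _ _ h0) ≫ cokernel.desc _ φ hφ)
    refine ⟨ψ, ?_⟩
    have : (homOfLE (hk.trans (Nat.le_succ k))).op =
        (homOfLE (Nat.le_succ k)).op ≫ (homOfLE hk).op := rfl
    rw [this, F.map_comp, Category.assoc, hψ]
    have h2 : F.map (homOfLE (Nat.le_succ k)).op ≫ inv (cokernel.desc _ _ h0) =
        cokernel.π (Formal.smulFamily (I ^ (k + 1)) (F.obj (op (k + 1)))) :=
      (IsIso.comp_inv_eq _).2 (cokernel.π_desc _ _ h0).symm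
    rw [← Category.assoc, h2, cokernel.π_desc]

end Groth.Agent.Lib.Helper55.CohFormal
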