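import Mathlib.RingTheory.Flat.FaithfullyFlat.Algebra
import Mathlib.RingTheory.Flat.Stability
import Mathlib.AlgebraicGeometry.Morphisms.Flat

set_option autoImplicit false
universe u

namespace Groth.Agent.Lib.Helper55

open TensorProduct

lemma flat_of_flat_of_faithfullyFlat (A B C : Type*) [CommRing A] [CommRing B] [CommRing C]
    [Algebra A B] [Algebra B C] [Algebra A C] [IsScalarTower A B C]
    [Module.FaithfullyFlat B C] [Module.Flat A C] : Module.Flat A B := by
  rw [Module.Flat.iff_lTensor_preserves_injective_linearMap]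
  intro N P _ _ _ _ f hf
  let fB : B ⊗[A] N →ₗ[B] B ⊗[A] P := TensorProduct.AlgebraTensorModule.lTensor B B f
  have hfB : (fB : B ⊗[A] N → B ⊗[A] P) = LinearMap.lTensor B f := rfl
  rw [← hfB, ← Module.FaithfullyFlat.lTensor_injective_iff_injective B C]
  have hC : Function.Injective (LinearMap.lTensor C f) :=
    Module.Flat.lTensor_preserves_injective_linearMap f hf
  let e₁ := TensorProduct.AlgebraTensorModule.cancelBaseChange A B B C N
  let e₂ := TensorProduct.AlgebraTensorModule.cancelBaseChange A B B C P
  have key : ∀ x, e₂ (LinearMap.lTensor C fB x) = LinearMap.lTensor C f (e₁ x) := by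
    intro x
    induction x using TensorProduct.induction_on with
    | zero => simp
    | add x y hx hy => simp only [map_add, hx, hy]
    | tmul c y =>
      induction y using TensorProduct.induction_on with
      | zero => simp
      | add x y hx hy => simp only [map_add, tmul_add, hx, hy]
      | tmul b n => simp [e₁, e₂, fB]
  intro x y hxy
  apply e₁.injective
  apply hC
  rw [← key, ← key, hxy]

end Groth.Agent.Lib.Helper55

namespace Groth.Agent.Lib.Helper55

open AlgebraicGeometry CategoryTheory Limits

lemma ringHom_flat_of_comp_of_faithfullyFlat {A B C : Type*} [CommRing A] [CommRing B] [CommRing C]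
    (φ : A →+* B) (ψ : B →+* C) (hψ : ψ.Flat) [IsLocalRing B] [IsLocalRing C] [IsLocalHom ψ]
    (hc : (ψ.comp φ).Flat) : φ.Flat := by
  algebraize [φ, ψ, ψ.comp φ]
  have : Module.FaithfullyFlat B C := Module.FaithfullyFlat.of_flat_of_isLocalHom
  exact flat_of_flat_of_faithfullyFlat A B C

lemma flat_of_comp_of_flat_of_surjective {X Y Z : Scheme.{u}} (f : X ⟶ Y) (g : Y ⟶ Z)
    [Flat f] [Surjective f] [Flat (f ≫ g)] : Flat g := by
  rw [Flat.iff_flat_stalkMap]
  intro y
  obtain ⟨x, rfl⟩ := f.surjective y
  have h1 : (f.stalkMap x).hom.Flat := Flat.stalkMap f x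
  have h2 : ((f ≫ g).stalkMap x).hom.Flat := Flat.stalkMap (f ≫ g) x
  rw [Scheme.Hom.stalkMap_comp] at h2
  exact ringHom_flat_of_comp_of_faithfullyFlat (g.stalkMap (f x)).hom (f.stalkMap x).hom h1 h2

end Groth.Agent.Lib.Helper55
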