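import Mathlib.AlgebraicGeometry.Morphisms.ClosedImmersion
import Mathlib.AlgebraicGeometry.Morphisms.QuasiCompact
import Mathlib.AlgebraicGeometry.Morphisms.IsIso
import Mathlib.AlgebraicGeometry.Limits

set_option autoImplicit false
universe u

namespace Groth.Agent.Lib.Helper55

open AlgebraicGeometry CategoryTheory Limits

def LiftProp {X Y : Scheme.{u}} (f : X ⟶ Y) : Prop :=
  ∀ (A B : Type u) [CommRing A] [CommRing B] (φ : A →+* B), Function.Injective φ →
    ∀ (a : Spec (CommRingCat.of B) ⟶ X) (b : Spec (CommRingCat.of A) ⟶ Y),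
      Spec.map (CommRingCat.ofHom φ) ≫ b = a ≫ f →
      ∃ l : Spec (CommRingCat.of A) ⟶ X, Spec.map (CommRingCat.ofHom φ) ≫ l = a ∧ l ≫ f = b

lemma injective_appTop_SpecMap {R S : CommRingCat.{u}} (ψ : R ⟶ S) (h : Function.Injective ψ.hom) :
    Function.Injective (Spec.map ψ).appTop.hom := by
  have h1 := Scheme.ΓSpecIso_naturality ψ
  have h2 : (Spec.map ψ).appTop = (Scheme.ΓSpecIso R).hom ≫ ψ ≫ (Scheme.ΓSpecIso S).inv := by
    rw [← Category.assoc, ← h1, Category.assoc, Iso.hom_inv_id, Category.comp_id]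
  rw [h2]
  simp only [CommRingCat.hom_comp, RingHom.coe_comp]
  exact ((ConcreteCategory.bijective_of_isIso (Scheme.ΓSpecIso S).inv).1).comp
    (h.comp (ConcreteCategory.bijective_of_isIso (Scheme.ΓSpecIso R).hom).1)

lemma liftProp_of_isClosedImmersion {X Y : Scheme.{u}} (f : X ⟶ Y) [IsClosedImmersion f] :
    LiftProp f := by
  intro A B _ _ φ hφ a b w
  have hcl : IsClosedImmersion (pullback.snd f b) := inferInstance
  let σ : Spec (CommRingCat.of B) ⟶ pullback f b :=
    pullback.lift a (Spec.map (CommRingCat.ofHom φ)) w.symm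
  have hσ : σ ≫ pullback.snd f b = Spec.map (CommRingCat.ofHom φ) := pullback.lift_snd _ _ _
  have hiso : IsIso (pullback.snd f b) := by
    apply IsClosedImmersion.isIso_of_injective_of_isAffine
    have h1 : (pullback.snd f b).appTop ≫ σ.appTop = (Spec.map (CommRingCat.ofHom φ)).appTop := by
      rw [← Scheme.Hom.comp_appTop, hσ]
    have h2 := injective_appTop_SpecMap (CommRingCat.ofHom φ) hφ
    rw [← h1] at h2
    simp only [CommRingCat.hom_comp, RingHom.coe_comp] at h2
    exact h2.of_comp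
  refine ⟨inv (pullback.snd f b) ≫ pullback.fst f b, ?_, ?_⟩
  · rw [← hσ, Category.assoc, IsIso.hom_inv_id_assoc]
    exact pullback.lift_fst _ _ _
  · rw [Category.assoc, pullback.condition, IsIso.inv_hom_id_assoc]

lemma LiftProp.snd {X Y Y' : Scheme.{u}} (f : X ⟶ Y) (g : Y' ⟶ Y) (h : LiftProp f) :
    LiftProp (pullback.snd f g) := by
  intro A B _ _ φ hφ a b w
  have w' : Spec.map (CommRingCat.ofHom φ) ≫ (b ≫ g) = (a ≫ pullback.fst f g) ≫ f := by
    rw [← Category.assoc, w, Category.assoc, Category.assoc, pullback.condition]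
  obtain ⟨l, hl₁, hl₂⟩ := h A B φ hφ (a ≫ pullback.fst f g) (b ≫ g) w'
  refine ⟨pullback.lift l b hl₂, ?_, pullback.lift_snd _ _ _⟩
  apply pullback.hom_ext
  · rw [Category.assoc, pullback.lift_fst, hl₁]
  · rw [Category.assoc, pullback.lift_snd, w]

end Groth.Agent.Lib.Helper55

namespace Groth.Agent.Lib.Helper55

open AlgebraicGeometry CategoryTheory Limits

lemma isClosedImmersion_of_liftProp_Spec {X : Scheme.{u}} {R : CommRingCat.{u}} (f : X ⟶ Spec R)
    [CompactSpace X] (h : LiftProp f) : IsClosedImmersion f := by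
  let 𝒰 : X.OpenCover := X.affineCover.finiteSubcover
  let Bi : 𝒰.I₀ → CommRingCat.{u} := fun i => Γ(𝒰.X i, ⊤)
  let c : Spec (CommRingCat.of (Π i, Bi i)) ⟶ X :=
    inv (sigmaSpec Bi) ≫ Sigma.desc (fun i => (𝒰.X i).isoSpec.inv ≫ 𝒰.f i)
  have hc : ∀ i, Spec.map (CommRingCat.ofHom (Pi.evalRingHom (fun i => Bi i) i)) ≫ c =
      (𝒰.X i).isoSpec.inv ≫ 𝒰.f i := by
    intro i
    rw [← ι_sigmaSpec Bi i]
    show (Sigma.ι _ i ≫ sigmaSpec Bi) ≫ inv (sigmaSpec Bi) ≫ Sigma.desc _ = _
    rw [Category.assoc, IsIso.hom_inv_id_assoc, Sigma.ι_desc]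
  let ψ : R ⟶ CommRingCat.of (Π i, Bi i) := Spec.preimage (c ≫ f)
  have hψ : Spec.map ψ = c ≫ f := Spec.map_preimage _
  let I : Ideal R := RingHom.ker ψ.hom
  let φ : R ⧸ I →+* (Π i, Bi i) := RingHom.kerLift ψ.hom
  have hφ : Function.Injective φ := RingHom.kerLift_injective _
  let b : Spec (CommRingCat.of (R ⧸ I)) ⟶ Spec R :=
    Spec.map (CommRingCat.ofHom (Ideal.Quotient.mk I))
  have hb : IsClosedImmersion b := IsClosedImmersion.spec_of_quotient_mk I
  have w : Spec.map (CommRingCat.ofHom φ) ≫ b = c ≫ f := by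
    rw [← hψ, ← Spec.map_comp]
    congr 1
  obtain ⟨l, hl₁, hl₂⟩ := h (R ⧸ I) (Π i, Bi i) φ hφ c b w
  have hmono : Mono l := by
    have : Mono (l ≫ f) := by rw [hl₂]; infer_instance
    exact mono_of_mono l f
  have hiso : IsIso l := by
    have hi : ∀ i, IsIso (pullback.snd l (𝒰.f i)) := by
      intro i
      let k : 𝒰.X i ⟶ Spec (CommRingCat.of (R ⧸ I)) :=
        (𝒰.X i).isoSpec.hom ≫ Spec.map (CommRingCat.ofHom (Pi.evalRingHom (fun i => Bi i) i)) ≫
          Spec.map (CommRingCat.ofHom φ)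
      have hk : k ≫ l = 𝒰.f i := by
        have e1 : (Spec.map (CommRingCat.ofHom (Pi.evalRingHom (fun i => Bi i) i)) ≫
            Spec.map (CommRingCat.ofHom φ)) ≫ l = (𝒰.X i).isoSpec.inv ≫ 𝒰.f i := by
          rw [Category.assoc, hl₁]
          exact hc i
        calc k ≫ l = (𝒰.X i).isoSpec.hom ≫
              ((Spec.map (CommRingCat.ofHom (Pi.evalRingHom (fun i => Bi i) i)) ≫
                Spec.map (CommRingCat.ofHom φ)) ≫ l) := by
              simp only [k, Category.assoc]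
          _ = (𝒰.X i).isoSpec.hom ≫ ((𝒰.X i).isoSpec.inv ≫ 𝒰.f i) :=
              congrArg (fun t => (𝒰.X i).isoSpec.hom ≫ t) e1
          _ = 𝒰.f i := Iso.hom_inv_id_assoc _ _
      let σ : 𝒰.X i ⟶ pullback l (𝒰.f i) := pullback.lift k (𝟙 _) (by rw [hk, Category.id_comp])
      have hσ : σ ≫ pullback.snd l (𝒰.f i) = 𝟙 _ := pullback.lift_snd _ _ _
      have : Mono (pullback.snd l (𝒰.f i)) := inferInstance
      have : IsSplitEpi (pullback.snd l (𝒰.f i)) := ⟨⟨σ, hσ⟩⟩
      exact isIso_of_mono_of_isSplitEpi _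
    exact (IsZariskiLocalAtTarget.iff_of_openCover
      (P := MorphismProperty.isomorphisms Scheme) 𝒰).2 hi
  have hf : f = inv l ≫ b := by rw [← hl₂, IsIso.inv_hom_id_assoc]
  rw [hf]
  infer_instance

theorem isClosedImmersion_iff_liftProp {X Y : Scheme.{u}} (f : X ⟶ Y) [QuasiCompact f] :
    IsClosedImmersion f ↔ LiftProp f := by
  refine ⟨fun _ => liftProp_of_isClosedImmersion f, fun h => ?_⟩
  rw [IsZariskiLocalAtTarget.iff_of_openCover (P := @IsClosedImmersion) Y.affineCover]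
  intro i
  show IsClosedImmersion (pullback.snd f (Y.affineCover.f i))
  have hqc : QuasiCompact (pullback.snd f (Y.affineCover.f i)) := inferInstance
  have : CompactSpace ↑(pullback f (Y.affineCover.f i)) :=
    QuasiCompact.compactSpace_of_compactSpace (pullback.snd f (Y.affineCover.f i))
  exact isClosedImmersion_of_liftProp_Spec _ (h.snd f _)

end Groth.Agent.Lib.Helper55
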