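import Mathlib.Algebra.Colimit.Ring
import Mathlib.RingTheory.Flat.EquationalCriterion
import Mathlib.RingTheory.Flat.FaithfullyFlat.Basic
import Mathlib.RingTheory.Flat.FaithfullyFlat.Algebra
import Mathlib.RingTheory.Ideal.GoingDown
import Mathlib.RingTheory.RingHom.Flat
import Mathlib.RingTheory.RingHom.FaithfullyFlat
import Mathlib.RingTheory.Ideal.MinimalPrime.Basic

set_option autoImplicit false
universe u

namespace Groth.Agent.Lib.Helper55.DirectLimitFlat

variable {ι : Type u} [Preorder ι] (G : ι → Type u)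
  [∀ i, CommRing (G i)] (f : ∀ i j, i ≤ j → G i →+* G j)

abbrev Lim := Ring.DirectLimit G fun i j h => ⇑(f i j h)

noncomputable abbrev ofL (i : ι) : G i →+* Lim G f := Ring.DirectLimit.of G (fun i j h => ⇑(f i j h)) i

lemma of_f' {i j : ι} (h : i ≤ j) (x : G i) : ofL G f j (f i j h x) = ofL G f i x :=
  Ring.DirectLimit.of_f (f := fun i j h => ⇑(f i j h)) h x

lemma f_f [DirectedSystem G fun i j h => f i j h] {i j k : ι} (h1 : i ≤ j) (h2 : j ≤ k) (x : G i) :
    f j k h2 (f i j h1 x) = f i k (h1.trans h2) x :=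
  DirectedSystem.map_map (f := fun i j h => ⇑(f i j h)) h1 h2 x

variable [IsDirected ι (· ≤ ·)] [Nonempty ι]

lemma exists_family {l : Type*} [Finite l] (x : l → Lim G f) (i : ι) :
    ∃ j, ∃ _ : i ≤ j, ∃ y : l → G j, ∀ k, ofL G f j (y k) = x k := by
  classical
  cases nonempty_fintype l
  have h1 : ∀ k, ∃ ik, ∃ yk : G ik, ofL G f ik yk = x k :=
    fun k => Ring.DirectLimit.exists_of (x k)
  choose ik yk hk using h1
  obtain ⟨j, hj⟩ := Finset.exists_le (insert i (Finset.univ.image ik))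
  have hij : i ≤ j := hj i (Finset.mem_insert_self _ _)
  have hkj : ∀ k, ik k ≤ j := fun k =>
    hj (ik k) (Finset.mem_insert_of_mem (Finset.mem_image_of_mem _ (Finset.mem_univ _)))
  refine ⟨j, hij, fun k => f (ik k) j (hkj k) (yk k), fun k => ?_⟩
  rw [of_f', hk]

variable [DirectedSystem G fun i j h => f i j h]

lemma exists_eq_of_of_eq {i : ι} (x y : G i) (h : ofL G f i x = ofL G f i y) :
    ∃ j, ∃ hij : i ≤ j, f i j hij x = f i j hij y := by
  have h0 : ofL G f i (x - y) = 0 := by rw [map_sub, h, sub_self]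
  obtain ⟨j, hij, hj⟩ := Ring.DirectLimit.of.zero_exact h0
  exact ⟨j, hij, by rwa [map_sub, sub_eq_zero] at hj⟩

theorem flat_ofL (hf : ∀ i j (h : i ≤ j), (f i j h).Flat) (i : ι) : (ofL G f i).Flat := by
  letI : Algebra (G i) (Lim G f) := (ofL G f i).toAlgebra
  show Module.Flat (G i) (Lim G f)
  apply Module.Flat.of_forall_isTrivialRelation
  intro l a x hsum
  obtain ⟨j, hij, y, hy⟩ := exists_family G f x i
  have hsmul : ∀ (c : G i) (r : Lim G f), c • r = ofL G f i c * r := fun c r => rfl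
  have h1 : ofL G f j (∑ k, f i j hij (a k) * y k) = ofL G f j 0 := by
    rw [map_zero, map_sum, ← hsum]
    refine Finset.sum_congr rfl fun k _ => ?_
    rw [map_mul, of_f', hy, hsmul]
  obtain ⟨j', hjj', h2⟩ := exists_eq_of_of_eq G f _ _ h1
  have hij' : i ≤ j' := hij.trans hjj'
  letI : Algebra (G i) (G j') := (f i j' hij').toAlgebra
  have hflat : Module.Flat (G i) (G j') := hf i j' hij'
  have hsmul' : ∀ (c : G i) (r : G j'), c • r = f i j' hij' c * r := fun c r => rfl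
  have h3 : ∑ k, a k • f j j' hjj' (y k) = 0 := by
    rw [map_zero, map_sum] at h2
    rw [← h2]
    refine Finset.sum_congr rfl fun k _ => ?_
    rw [map_mul, f_f, hsmul']
  obtain ⟨m, b, w, hw1, hw2⟩ := Module.Flat.isTrivialRelation_of_sum_smul_eq_zero h3
  refine ⟨m, b, fun n => ofL G f j' (w n), fun k => ?_, hw2⟩
  have hw1k : f j j' hjj' (y k) = ∑ n, b k n • w n := hw1 k
  rw [← hy k, ← of_f' G f hjj', hw1k, map_sum]
  refine Finset.sum_congr rfl fun n _ => ?_
  rw [hsmul', map_mul, of_f', hsmul]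

lemma f_comp {i j k : ι} (h1 : i ≤ j) (h2 : j ≤ k) :
    (f j k h2).comp (f i j h1) = f i k (h1.trans h2) :=
  RingHom.ext fun x => f_f G f h1 h2 x

lemma map_map_f {i j k : ι} (h1 : i ≤ j) (h2 : j ≤ k) (I : Ideal (G i)) :
    (I.map (f i j h1)).map (f j k h2) = I.map (f i k (h1.trans h2)) := by
  rw [Ideal.map_map, f_comp]

lemma exists_mem_map_of_mem_map {i : ι} (I : Ideal (G i)) (r : Lim G f)
    (hr : r ∈ I.map (ofL G f i)) :
    ∃ j, ∃ hij : i ≤ j, ∃ s ∈ I.map (f i j hij), ofL G f j s = r := by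
  unfold Ideal.map at hr
  induction hr using Submodule.span_induction with
  | mem x hx =>
    obtain ⟨a, ha, rfl⟩ := hx
    exact ⟨i, le_rfl, f i i le_rfl a, Ideal.mem_map_of_mem _ ha, of_f' G f le_rfl a⟩
  | zero => exact ⟨i, le_rfl, 0, zero_mem _, map_zero _⟩
  | add x y _ _ hx hy =>
    obtain ⟨j1, h1, s1, hs1, rfl⟩ := hx
    obtain ⟨j2, h2, s2, hs2, rfl⟩ := hy
    obtain ⟨j, hj1, hj2⟩ := exists_ge_ge j1 j2
    refine ⟨j, h1.trans hj1, f j1 j hj1 s1 + f j2 j hj2 s2, add_mem ?_ ?_, ?_⟩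
    · have := Ideal.mem_map_of_mem (f j1 j hj1) hs1
      rwa [map_map_f] at this
    · have := Ideal.mem_map_of_mem (f j2 j hj2) hs2
      rwa [map_map_f] at this
    · rw [map_add, of_f', of_f']
  | smul c x _ hx =>
    obtain ⟨j1, h1, s1, hs1, rfl⟩ := hx
    obtain ⟨jc, sc, rfl⟩ := Ring.DirectLimit.exists_of c
    obtain ⟨j, hj1, hjc⟩ := exists_ge_ge j1 jc
    refine ⟨j, h1.trans hj1, f jc j hjc sc * f j1 j hj1 s1, Ideal.mul_mem_left _ _ ?_, ?_⟩
    · have := Ideal.mem_map_of_mem (f j1 j hj1) hs1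
      rwa [map_map_f] at this
    · rw [map_mul, of_f', of_f']
      rfl

lemma comap_map_ofL (hff : ∀ i j (h : i ≤ j), (f i j h).FaithfullyFlat) {i : ι}
    (I : Ideal (G i)) : (I.map (ofL G f i)).comap (ofL G f i) = I := by
  refine le_antisymm ?_ Ideal.le_comap_map
  intro x hx
  obtain ⟨j, hij, s, hs, hsx⟩ := exists_mem_map_of_mem_map G f I _ (Ideal.mem_comap.1 hx)
  rw [← of_f' G f hij x] at hsx
  obtain ⟨j', hjj', h2⟩ := exists_eq_of_of_eq G f _ _ hsx
  rw [f_f] at h2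
  have h3 : f i j' (hij.trans hjj') x ∈ I.map (f i j' (hij.trans hjj')) := by
    rw [← h2, ← map_map_f G f hij hjj']
    exact Ideal.mem_map_of_mem _ hs
  letI : Algebra (G i) (G j') := (f i j' (hij.trans hjj')).toAlgebra
  have hfl : Module.FaithfullyFlat (G i) (G j') := hff i j' (hij.trans hjj')
  have h4 := Ideal.comap_map_eq_self_of_faithfullyFlat (B := G j') I
  rw [← h4]
  exact Ideal.mem_comap.2 h3

theorem faithfullyFlat_ofL (hff : ∀ i j (h : i ≤ j), (f i j h).FaithfullyFlat) (i : ι) :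
    (ofL G f i).FaithfullyFlat := by
  rw [RingHom.FaithfullyFlat.iff_flat_and_comap_surjective]
  refine ⟨flat_ofL G f (fun i j h => (hff i j h).flat) i, fun p => ?_⟩
  exact (PrimeSpectrum.mem_range_comap_iff (ofL G f i)).2 (comap_map_ofL G f hff p.asIdeal)

end Groth.Agent.Lib.Helper55.DirectLimitFlat

namespace Groth.Agent.Lib.Helper55.DirectLimitFlat

section MinimalPrimes

variable {A B : Type*} [CommRing A] [CommRing B]

lemma comap_mem_minimalPrimes_of_flat (φ : A →+* B) (hφ : φ.Flat) {q : Ideal B}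
    (hq : q ∈ minimalPrimes B) : q.comap φ ∈ minimalPrimes A := by
  letI : Algebra A B := φ.toAlgebra
  have hfl : Module.Flat A B := hφ
  have hgd : Algebra.HasGoingDown A B := inferInstance
  haveI : q.IsPrime := hq.1.1
  refine ⟨⟨Ideal.comap_isPrime φ q, bot_le⟩, fun p' hp' hle => ?_⟩
  haveI : p'.IsPrime := hp'.1
  obtain ⟨P, hPq, hP, hPo⟩ := Ideal.exists_ideal_le_liesOver_of_le (p := p') (q := q.under A) q hle
  have hqP : q ≤ P := hq.2 ⟨hP, bot_le⟩ hPq
  have hPeq : P = q := le_antisymm hPq hqP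
  subst hPeq
  have : p' = P.under A := hPo.over
  rw [this]
  exact le_rfl

lemma exists_minimalPrimes_comap_eq (φ : A →+* B) (hφ : φ.FaithfullyFlat) {p : Ideal A}
    (hp : p ∈ minimalPrimes A) : ∃ q ∈ minimalPrimes B, q.comap φ = p := by
  haveI : p.IsPrime := hp.1.1
  obtain ⟨Q, hQ⟩ := (RingHom.FaithfullyFlat.iff_flat_and_comap_surjective.1 hφ).2 ⟨p, hp.1.1⟩
  have hQ' : Q.asIdeal.comap φ = p := congrArg PrimeSpectrum.asIdeal hQ
  obtain ⟨q, hq, hqQ⟩ := Ideal.exists_minimalPrimes_le (bot_le : (⊥ : Ideal B) ≤ Q.asIdeal)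
  refine ⟨q, hq, ?_⟩
  haveI : q.IsPrime := hq.1.1
  have h1 : q.comap φ ≤ p := hQ' ▸ Ideal.comap_mono hqQ
  exact le_antisymm h1 (hp.2 ⟨Ideal.comap_isPrime φ q, bot_le⟩ h1)

lemma encard_minimalPrimes_le_of_faithfullyFlat (φ : A →+* B) (hφ : φ.FaithfullyFlat) :
    (minimalPrimes A).encard ≤ (minimalPrimes B).encard := by
  have hsub : minimalPrimes A ⊆ (Ideal.comap φ) '' minimalPrimes B := by
    intro p hp
    obtain ⟨q, hq, hqp⟩ := exists_minimalPrimes_comap_eq φ hφ hp
    exact ⟨q, hq, hqp⟩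
  exact (Set.encard_le_encard hsub).trans (Set.encard_image_le _ _)

end MinimalPrimes

variable {ι : Type u} [Preorder ι] (G : ι → Type u)
  [∀ i, CommRing (G i)] (f : ∀ i j, i ≤ j → G i →+* G j)
  [IsDirected ι (· ≤ ·)] [Nonempty ι]

lemma exists_forall_comap_ne {a b : Ideal (Lim G f)} (hab : a ≠ b) :
    ∃ i, ∀ j, i ≤ j → a.comap (ofL G f j) ≠ b.comap (ofL G f j) := by
  have key : ∀ a b : Ideal (Lim G f), ¬ a ≤ b →
      ∃ i, ∀ j, i ≤ j → a.comap (ofL G f j) ≠ b.comap (ofL G f j) := by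
    intro a b hle
    obtain ⟨x, hxa, hxb⟩ := Set.not_subset.1 hle
    obtain ⟨i, xi, rfl⟩ := Ring.DirectLimit.exists_of x
    refine ⟨i, fun j hij heq => ?_⟩
    have h1 : f i j hij xi ∈ a.comap (ofL G f j) := by
      rw [Ideal.mem_comap, of_f']
      exact hxa
    rw [heq, Ideal.mem_comap, of_f'] at h1
    exact hxb h1
  by_cases h : a ≤ b
  · have h' : ¬ b ≤ a := fun h' => hab (le_antisymm h h')
    obtain ⟨i, hi⟩ := key b a h'
    exact ⟨i, fun j hij heq => hi j hij heq.symm⟩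
  · exact key a b h

lemma exists_injOn_comap {s : Set (Ideal (Lim G f))} (hs : s.Finite) :
    ∃ i, Set.InjOn (Ideal.comap (ofL G f i)) s := by
  classical
  have h1 : ∀ a b : Ideal (Lim G f), ∃ i, a ≠ b →
      ∀ j, i ≤ j → a.comap (ofL G f j) ≠ b.comap (ofL G f j) := by
    intro a b
    by_cases hab : a = b
    · exact ⟨Classical.arbitrary ι, fun h => absurd hab h⟩
    · obtain ⟨i, hi⟩ := exists_forall_comap_ne G f hab
      exact ⟨i, fun _ => hi⟩
  choose I hI using h1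
  obtain ⟨M, hM⟩ := Finset.exists_le
    ((hs.toFinset ×ˢ hs.toFinset).image (fun p : Ideal (Lim G f) × Ideal (Lim G f) => I p.1 p.2))
  refine ⟨M, fun a ha b hb hab => ?_⟩
  by_contra hne
  have hle : I a b ≤ M := hM _ (Finset.mem_image.2 ⟨(a, b), by
    simp [Finset.mem_product, ha, hb], rfl⟩)
  exact hI a b hne M hle hab

variable [DirectedSystem G fun i j h => f i j h]

theorem encard_minimalPrimes_eq_iSup (hff : ∀ i j (h : i ≤ j), (f i j h).FaithfullyFlat) :
    (minimalPrimes (Lim G f)).encard = ⨆ i, (minimalPrimes (G i)).encard := by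
  apply le_antisymm
  · by_contra hlt
    rw [not_le] at hlt
    have hne : (⨆ i, (minimalPrimes (G i)).encard) ≠ ⊤ := ne_top_of_lt hlt
    obtain ⟨n, hn⟩ := ENat.ne_top_iff_exists.1 hne
    rw [← hn] at hlt
    have hle : ((n + 1 : ℕ) : ℕ∞) ≤ (minimalPrimes (Lim G f)).encard := by
      rw [Nat.cast_add_one]
      exact Order.add_one_le_of_lt hlt
    obtain ⟨t, hts, ht⟩ := Set.exists_subset_encard_eq hle
    have htfin : t.Finite := Set.finite_of_encard_eq_coe ht
    obtain ⟨i, hi⟩ := exists_injOn_comap G f htfin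
    have h1 : (Ideal.comap (ofL G f i) '' t).encard = t.encard := hi.encard_image
    have h2 : Ideal.comap (ofL G f i) '' t ⊆ minimalPrimes (G i) := by
      rintro _ ⟨q, hq, rfl⟩
      exact comap_mem_minimalPrimes_of_flat _ (faithfullyFlat_ofL G f hff i).flat (hts hq)
    have h3 : ((n + 1 : ℕ) : ℕ∞) ≤ (n : ℕ∞) := by
      rw [← ht, ← h1, hn]
      exact (Set.encard_le_encard h2).trans (le_iSup (fun i => (minimalPrimes (G i)).encard) i)
    have := Nat.cast_le.1 h3
    omega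
  · exact iSup_le fun i =>
      encard_minimalPrimes_le_of_faithfullyFlat _ (faithfullyFlat_ofL G f hff i)

end Groth.Agent.Lib.Helper55.DirectLimitFlat
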