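import Mathlib.FieldTheory.IsAlgClosed.Basic
import Mathlib.FieldTheory.Fixed
import Mathlib.RingTheory.Nilpotent.Lemmas
import Mathlib.RingTheory.Artinian.Ring
import Mathlib.RingTheory.Artinian.Algebra
import Mathlib.RingTheory.Ideal.Quotient.Operations
import Mathlib.RingTheory.Noetherian.Basic
import Mathlib.LinearAlgebra.FreeModule.Finite.Matrix
import Mathlib.Algebra.Algebra.Pi

set_option autoImplicit false
universe u v

namespace Groth.Agent.Lib.Helper55.FinAlg

variable (k : Type u) [Field k] (A : Type v) [CommRing A] [Algebra k A]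

lemma finite_algHom [Module.Finite k A] : Finite (A →ₐ[k] k) := by
  have h := linearIndependent_toLinearMap k A k
  exact h.finite_of_isNoetherian

variable {k A}

lemma algHom_surjective (f : A →ₐ[k] k) : Function.Surjective f := fun c =>
  ⟨algebraMap k A c, by simp⟩

lemma ker_isMaximal (f : A →ₐ[k] k) : (RingHom.ker (f : A →+* k)).IsMaximal :=
  RingHom.ker_isMaximal_of_surjective (f : A →+* k) (algHom_surjective f)

lemma eq_of_ker_eq {f g : A →ₐ[k] k} (h : RingHom.ker (f : A →+* k) = RingHom.ker (g : A →+* k)) :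
    f = g := by
  ext a
  have h1 : a - algebraMap k A (f a) ∈ RingHom.ker (f : A →+* k) := by
    rw [RingHom.mem_ker]
    simp
  rw [h, RingHom.mem_ker] at h1
  have h2 : g a - f a = 0 := by simpa using h1
  exact (sub_eq_zero.1 h2).symm

lemma pairwise_coprime :
    Pairwise (Function.onFun IsCoprime fun f : A →ₐ[k] k => RingHom.ker (f : A →+* k)) := by
  intro f g hfg
  rw [Function.onFun, Ideal.isCoprime_iff_sup_eq]
  exact Ideal.IsMaximal.coprime_of_ne (ker_isMaximal f) (ker_isMaximal g)
    (fun h => hfg (eq_of_ker_eq h))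

lemma pi_surjective [Module.Finite k A] :
    Function.Surjective (AlgHom.pi (R := k) (fun f : A →ₐ[k] k => f)) := by
  have := finite_algHom k A
  intro t
  obtain ⟨r, hr⟩ := Ideal.exists_forall_sub_mem_ideal (pairwise_coprime (k := k) (A := A))
    (fun f => algebraMap k A (t f))
  refine ⟨r, ?_⟩
  ext f
  have := hr f
  rw [RingHom.mem_ker] at this
  have h2 : f r - t f = 0 := by simpa using this
  simpa using sub_eq_zero.1 h2

lemma exists_algHom_ker_eq [IsAlgClosed k] [Module.Finite k A] (p : Ideal A) [p.IsPrime] :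
    ∃ f : A →ₐ[k] k, RingHom.ker (f : A →+* k) = p := by
  have : Module.Finite k (A ⧸ p) := Module.Finite.of_surjective
    (Ideal.Quotient.mkₐ k p).toLinearMap (Ideal.Quotient.mkₐ_surjective k p)
  have : Algebra.IsIntegral k (A ⧸ p) := Algebra.IsIntegral.of_finite k (A ⧸ p)
  have hbij : Function.Bijective (algebraMap k (A ⧸ p)) :=
    IsAlgClosed.algebraMap_bijective_of_isIntegral
  let e : k ≃ₐ[k] (A ⧸ p) := AlgEquiv.ofBijective (Algebra.ofId k (A ⧸ p)) hbij
  refine ⟨(e.symm : (A ⧸ p) →ₐ[k] k).comp (Ideal.Quotient.mkₐ k p), ?_⟩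
  ext a
  rw [RingHom.mem_ker]
  show e.symm (Ideal.Quotient.mk p a) = 0 ↔ a ∈ p
  rw [EmbeddingLike.map_eq_zero_iff, Ideal.Quotient.eq_zero_iff_mem]

lemma ker_pi [IsAlgClosed k] [Module.Finite k A] :
    RingHom.ker (AlgHom.pi (R := k) (fun f : A →ₐ[k] k => f)) = nilradical A := by
  ext a
  rw [RingHom.mem_ker, nilradical_eq_sInf, Ideal.mem_sInf]
  constructor
  · intro h p hp
    have : p.IsPrime := hp
    obtain ⟨f, rfl⟩ := exists_algHom_ker_eq (k := k) p
    rw [RingHom.mem_ker]
    exact congrFun h f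
  · intro h
    ext f
    have := h (I := RingHom.ker (f : A →+* k)) (ker_isMaximal f).isPrime
    rw [RingHom.mem_ker] at this
    exact this

end Groth.Agent.Lib.Helper55.FinAlg
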