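import Groth.Agent.Lib.Helper55.FinAlg
import Mathlib.RingTheory.Idempotents

set_option autoImplicit false
universe u v

namespace Groth.Agent.Lib.Helper55.FinAlg

variable {k : Type u} [Field k] {A : Type v} [CommRing A] [Algebra k A]

noncomputable def sumLin {I : Type*} [Fintype I] (e : I → A) : (I → k) →ₗ[k] A :=
  ∑ i, (LinearMap.proj i : (I → k) →ₗ[k] k).smulRight (e i)

lemma sumLin_apply {I : Type*} [Fintype I] (e : I → A) (t : I → k) :
    sumLin e t = ∑ i, t i • e i := by
  simp [sumLin, LinearMap.sum_apply]

noncomputable def sumAlgHom {I : Type*} [Fintype I] [DecidableEq I] (e : I → A)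
    (he : CompleteOrthogonalIdempotents e) : (I → k) →ₐ[k] A :=
  AlgHom.ofLinearMap (sumLin e)
    (by
      rw [sumLin_apply]
      simp [he.complete])
    (by
      intro t t'
      rw [sumLin_apply, sumLin_apply, sumLin_apply, Finset.sum_mul_sum]
      refine Finset.sum_congr rfl fun i _ => ?_
      simp only [smul_mul_smul_comm, he.toOrthogonalIdempotents.mul_eq, smul_ite, smul_zero,
        Finset.sum_ite_eq, Finset.mem_univ, if_true, Pi.mul_apply])

lemma sumAlgHom_apply {I : Type*} [Fintype I] [DecidableEq I] (e : I → A)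
    (he : CompleteOrthogonalIdempotents e) (t : I → k) :
    sumAlgHom e he t = ∑ i, t i • e i :=
  sumLin_apply e t

end Groth.Agent.Lib.Helper55.FinAlg
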