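import Mathlib.AlgebraicGeometry.Noetherian
import Mathlib.AlgebraicGeometry.Fiber
import Mathlib.AlgebraicGeometry.Morphisms.FiniteType
import Mathlib.AlgebraicGeometry.Pullbacks
import Mathlib.RingTheory.EssentialFiniteness
import Mathlib.RingTheory.Localization.Submodule
import Mathlib.RingTheory.RingHom.EssFiniteType

set_option autoImplicit false
universe u

namespace Groth.Agent.Lib.Helper55

open AlgebraicGeometry CategoryTheory Limits TensorProduct

lemma isNoetherianRing_tensor_of_essFiniteType (k R K : Type u) [CommRing k] [CommRing R]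
    [CommRing K] [Algebra k R] [Algebra k K] [Algebra.EssFiniteType k K] [IsNoetherianRing R] :
    IsNoetherianRing (R ⊗[k] K) :=
  Algebra.EssFiniteType.isNoetherianRing R (R ⊗[k] K)

lemma isLocallyNoetherian_pullback_Spec_of_essFiniteType {k K R : CommRingCat.{u}} (φ : k ⟶ K)
    (hφ : φ.hom.EssFiniteType) [IsNoetherianRing R] (r : Spec R ⟶ Spec k) :
    IsLocallyNoetherian (pullback r (Spec.map φ)) := by
  obtain ⟨ψ, rfl⟩ := Spec.map_surjective r
  letI : Algebra k R := ψ.hom.toAlgebra
  letI : Algebra k K := φ.hom.toAlgebra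
  have : Algebra.EssFiniteType k K := hφ
  have := isNoetherianRing_tensor_of_essFiniteType k R K
  have e := pullbackSpecIso k R K
  exact isLocallyNoetherian_of_isOpenImmersion e.hom

lemma isLocallyNoetherian_pullback_of_essFiniteType {k K : CommRingCat.{u}} (φ : k ⟶ K)
    (hφ : φ.hom.EssFiniteType) {W : Scheme.{u}} [IsLocallyNoetherian W] (p : W ⟶ Spec k) :
    IsLocallyNoetherian (pullback p (Spec.map φ)) := by
  rw [isLocallyNoetherian_iff_openCover
    (Scheme.Pullback.openCoverOfLeft W.affineOpenCover.openCover p (Spec.map φ))]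
  intro i
  have h1 : IsLocallyNoetherian (W.affineOpenCover.openCover.X i) := inferInstance
  have h2 : IsNoetherianRing (W.affineOpenCover.X i) := isLocallyNoetherian_Spec.1 h1
  exact isLocallyNoetherian_pullback_Spec_of_essFiniteType φ hφ _

lemma isLocallyNoetherian_of_isPullback_of_essFiniteType {k K : CommRingCat.{u}} (φ : k ⟶ K)
    (hφ : φ.hom.EssFiniteType) {W W' : Scheme.{u}} [IsLocallyNoetherian W] {p : W ⟶ Spec k}
    {m : W' ⟶ W} {p' : W' ⟶ Spec K} (h : IsPullback m p' p (Spec.map φ)) :
    IsLocallyNoetherian W' := by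
  have := isLocallyNoetherian_pullback_of_essFiniteType φ hφ p
  exact isLocallyNoetherian_of_isOpenImmersion h.isoPullback.hom

end Groth.Agent.Lib.Helper55
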