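import Groth.Prelude.Def_Algz
import Groth.Agent.Lib.Helper81.SubobjectImage

set_option autoImplicit false
universe v u v' u'

open CategoryTheory CategoryTheory.Limits Opposite

namespace Groth.Agent.Lib.Helper55.ProSys

variable {C : Type u} [Category.{v} C]

lemma tr_comp (X : ARSys.PS C) {a b c : ℕ} (h1 : a ≤ b) (h2 : b ≤ c) :
    ARSys.tr X h2 ≫ ARSys.tr X h1 = ARSys.tr X (h1.trans h2) := by
  unfold ARSys.tr
  rw [← X.map_comp]
  rfl

lemma tr_refl (X : ARSys.PS C) (a : ℕ) : ARSys.tr X (le_refl a) = 𝟙 _ := by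
  unfold ARSys.tr
  exact X.map_id _

lemma isProIsomorphic_comp {D : Type u'} [Category.{v'} D] (F : C ⥤ D) {X Y : ARSys.PS C}
    (h : Algz.IsProIsomorphic X Y) : Algz.IsProIsomorphic (X ⋙ F) (Y ⋙ F) := by
  obtain ⟨m, hm, hle, a, ha⟩ := h
  refine ⟨m, hm, hle, Functor.whiskerRight a F, fun n => ?_⟩
  obtain ⟨k, hk, b, hb1, hb2⟩ := ha n
  refine ⟨k, hk, F.map b, ?_, ?_⟩
  · have := congrArg F.map hb1
    rw [F.map_comp] at this
    exact this
  · have := congrArg F.map hb2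
    rw [F.map_comp] at this
    exact this

lemma exists_data {X Y : ARSys.PS C} (h : Algz.IsProIsomorphic X Y) :
    ∃ (m : ℕ → ℕ) (hm : Monotone m) (_ : ∀ n, n ≤ m n)
      (a : ∀ k, X.obj (op (m k)) ⟶ Y.obj (op k)),
      (∀ {j k : ℕ} (h : k ≤ j), a j ≫ ARSys.tr Y h = ARSys.tr X (hm h) ≫ a k) ∧
      ∀ n, ∃ (k : ℕ) (hk : n ≤ k) (b : Y.obj (op k) ⟶ X.obj (op (m n))),
        a k ≫ b = ARSys.tr X (hm hk) ∧ b ≫ a n = ARSys.tr Y hk := by
  obtain ⟨m, hm, hle, a, ha⟩ := h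
  refine ⟨m, hm, hle, fun k => a.app (op k), ?_, ?_⟩
  · intro j k h
    exact (a.naturality (homOfLE h).op).symm
  · intro n
    obtain ⟨k, hk, b, hb1, hb2⟩ := ha n
    exact ⟨k, hk, b, hb1, hb2⟩

lemma of_data {X Y : ARSys.PS C} (m : ℕ → ℕ) (hm : Monotone m) (hle : ∀ n, n ≤ m n)
    (a : ∀ k, X.obj (op (m k)) ⟶ Y.obj (op k))
    (hnat : ∀ {j k : ℕ} (h : k ≤ j), a j ≫ ARSys.tr Y h = ARSys.tr X (hm h) ≫ a k)
    (hpro : ∀ n, ∃ (k : ℕ) (hk : n ≤ k) (b : Y.obj (op k) ⟶ X.obj (op (m n))),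
        a k ≫ b = ARSys.tr X (hm hk) ∧ b ≫ a n = ARSys.tr Y hk) :
    Algz.IsProIsomorphic X Y := by
  refine ⟨m, hm, hle, ⟨fun k => a k.unop, ?_⟩, ?_⟩
  · intro j k f
    have hkj : k.unop ≤ j.unop := f.unop.le
    have h1 := hnat hkj
    have h2 : f = (homOfLE hkj).op := Subsingleton.elim _ _
    subst h2
    exact h1.symm
  · intro n
    obtain ⟨k, hk, b, hb1, hb2⟩ := hpro n
    exact ⟨k, hk, b, hb1, hb2⟩

lemma isProIsomorphic_of_iso_left {X X' Y : ARSys.PS C} (e : X ≅ X')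
    (h : Algz.IsProIsomorphic X Y) : Algz.IsProIsomorphic X' Y := by
  obtain ⟨m, hm, hle, a, hnat, hpro⟩ := exists_data h
  have hinv : ∀ k, e.hom.app (op k) ≫ e.inv.app (op k) = 𝟙 _ := fun k => by
    rw [← NatTrans.comp_app, e.hom_inv_id]
    rfl
  have hinv' : ∀ k, e.inv.app (op k) ≫ e.hom.app (op k) = 𝟙 _ := fun k => by
    rw [← NatTrans.comp_app, e.inv_hom_id]
    rfl
  refine of_data m hm hle (fun k => e.inv.app (op (m k)) ≫ a k) ?_ ?_
  · intro j k h
    rw [Category.assoc, hnat h, ← Category.assoc, ← Category.assoc]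
    congr 1
    exact (e.inv.naturality (homOfLE (hm h)).op).symm
  · intro n
    obtain ⟨k, hk, b, hb1, hb2⟩ := hpro n
    refine ⟨k, hk, b ≫ e.hom.app (op (m n)), ?_, ?_⟩
    · rw [Category.assoc, ← Category.assoc (a k), hb1]
      have h2 : ARSys.tr X (hm hk) ≫ e.hom.app (op (m n)) =
          e.hom.app (op (m k)) ≫ ARSys.tr X' (hm hk) := e.hom.naturality (homOfLE (hm hk)).op
      rw [h2, ← Category.assoc, hinv', Category.id_comp]
    · rw [Category.assoc, ← Category.assoc (e.hom.app _), hinv, Category.id_comp, hb2]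

section Abelian

variable [Abelian C]

lemma isML_of_isProIsomorphic_of_isStrict {X Y : ARSys.PS C} (h : Algz.IsProIsomorphic X Y)
    (hY : ARSys.IsStrict Y) : ARSys.IsML X := by
  obtain ⟨m, hm, hle, a, hnat, hpro⟩ := exists_data h
  intro n
  obtain ⟨k, hk, b, hb1, hb2⟩ := hpro n
  have key : ∀ j (hj : m k ≤ j), imageSubobject (ARSys.tr X ((hle n).trans ((hm hk).trans hj))) =
      imageSubobject (b ≫ ARSys.tr X (hle n)) := by
    intro j hj
    have hnj : n ≤ j := (hle n).trans ((hm hk).trans hj)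
    apply le_antisymm
    · have e1 : ARSys.tr X hnj = (ARSys.tr X hj ≫ a k) ≫ (b ≫ ARSys.tr X (hle n)) := by
        rw [Category.assoc, ← Category.assoc (a k), hb1, tr_comp, tr_comp]
      rw [e1]
      exact imageSubobject_comp_le _ _
    · obtain ⟨k', hk', b', hc1, hc2⟩ := hpro j
      have hkk' : k ≤ k' := ((hle k).trans hj).trans hk'
      have hepi : Epi (ARSys.tr Y hkk') := hY k k' hkk'
      have hkj : k ≤ j := (hle k).trans hj
      have e2 : ARSys.tr Y hkk' ≫ (b ≫ ARSys.tr X (hle n)) =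
          (b' ≫ ARSys.tr X (hle j)) ≫ ARSys.tr X hnj := by
        have : ARSys.tr Y hkk' = ARSys.tr Y hk' ≫ ARSys.tr Y hkj := (tr_comp Y hkj hk').symm
        rw [this, ← hc2, Category.assoc, Category.assoc, ← Category.assoc (a j), hnat hkj,
          Category.assoc, ← Category.assoc (a k), hb1, Category.assoc, tr_comp, tr_comp,
          tr_comp]
      rw [← Groth.Agent.Lib.Helper81.imageSubobject_epi_comp (ARSys.tr Y hkk')
        (b ≫ ARSys.tr X (hle n)), e2]
      exact imageSubobject_comp_le _ _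
  refine ⟨m k - n, fun s hs => ?_⟩
  have h1 : m k ≤ n + s := by omega
  have h2 : m k ≤ n + (m k - n) := by omega
  exact (key (n + s) h1).trans (key (n + (m k - n)) h2).symm

end Abelian

end Groth.Agent.Lib.Helper55.ProSys
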