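import Mathlib.AlgebraicGeometry.ProjectiveSpectrum.Topology
import Mathlib.RingTheory.GradedAlgebra.Radical
import Mathlib.RingTheory.GradedAlgebra.Homogeneous.Ideal
import Mathlib.Algebra.Module.LocalizedModule.Basic
import Mathlib.Algebra.GradedMulAction

set_option autoImplicit false
universe u

namespace Groth.Agent.Lib.Helper55.ProjGlue

variable {R A : Type u} [CommRing R] [CommRing A] [Algebra R A] (𝒜 : ℕ → Submodule R A)
  [GradedAlgebra 𝒜]

lemma mem_irrelevant_of_mem {f : A} {d : ℕ} (hd : 0 < d) (hf : f ∈ 𝒜 d) :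
    f ∈ (HomogeneousIdeal.irrelevant 𝒜).toIdeal := by
  show f ∈ HomogeneousIdeal.irrelevant 𝒜
  rw [HomogeneousIdeal.mem_irrelevant_iff, GradedRing.proj_apply,
    DirectSum.decompose_of_mem_ne 𝒜 hf (by omega)]

lemma mem_radical_of_forall {I : Ideal A} (hI : I.IsHomogeneous 𝒜) {f : A} {d : ℕ} (hd : 0 < d)
    (hf : f ∈ 𝒜 d)
    (h : ∀ x : ProjectiveSpectrum 𝒜, f ∉ x.asHomogeneousIdeal →
      ¬ I ≤ x.asHomogeneousIdeal.toIdeal) : f ∈ I.radical := by
  by_contra hfI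
  rw [hI.radical_eq, Ideal.mem_sInf] at hfI
  push Not at hfI
  obtain ⟨J, ⟨hJh, hIJ, hJp⟩, hfJ⟩ := hfI
  let x : ProjectiveSpectrum 𝒜 :=
    ⟨⟨J, hJh⟩, hJp, fun hle => hfJ (hle (mem_irrelevant_of_mem 𝒜 hd hf))⟩
  exact h x hfJ hIJ

lemma pow_mem_graded' {f : A} {d : ℕ} (hf : f ∈ 𝒜 d) (K : ℕ) : f ^ K ∈ 𝒜 (K * d) := by
  have := SetLike.pow_mem_graded K hf
  rwa [smul_eq_mul] at this

lemma homogenize {L : Type*} [Fintype L] (g : L → A) (e : L → ℕ) (hg : ∀ l, g l ∈ 𝒜 (e l))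
    {f : A} {d : ℕ} (hf : f ∈ 𝒜 d) (K : ℕ) (a : L → A) (h : f ^ K = ∑ l, a l * g l) :
    ∃ b : L → A, (∀ l, b l ∈ 𝒜 (K * d - e l)) ∧ (∀ l, K * d < e l → b l = 0) ∧
      f ^ K = ∑ l, b l * g l := by
  classical
  refine ⟨fun l => if e l ≤ K * d then (DirectSum.decompose 𝒜 (a l) (K * d - e l) : A) else 0,
    fun l => ?_, fun l hl => ?_, ?_⟩
  · dsimp only
    split_ifs
    · exact SetLike.coe_mem _
    · exact zero_mem _
  · dsimp only
    rw [if_neg (by omega)]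
  · have hfK : f ^ K ∈ 𝒜 (K * d) := pow_mem_graded' 𝒜 hf K
    have h1 : (DirectSum.decompose 𝒜 (f ^ K) (K * d) : A) = f ^ K :=
      DirectSum.decompose_of_mem_same 𝒜 hfK
    rw [← h1, h, DirectSum.decompose_sum, DFinsupp.finsetSum_apply,
      AddSubmonoidClass.coe_finsetSum]
    refine Finset.sum_congr rfl fun l _ => ?_
    rw [DirectSum.coe_decompose_mul_of_right_mem 𝒜 (K * d) (hg l)]
    dsimp only
    by_cases hl : e l ≤ K * d
    · rw [if_pos hl, if_pos hl]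
    · rw [if_neg hl, if_neg hl, zero_mul]

variable {M : Type*} [AddCommGroup M] [Module R M] [Module A M]
  (ℳ : ℕ → Submodule R M) [SetLike.GradedSMul 𝒜 ℳ]

lemma glue {T : Type*} [Fintype T] (n : ℤ) {d : ℕ} (hd : 0 < d) {f : A} (hf : f ∈ 𝒜 d)
    (g : T → A) (e : T → ℕ) (hg : ∀ l, g l ∈ 𝒜 (e l))
    (m : T → M) (i : T → ℕ) (hm : ∀ l, m l ∈ ℳ (i l)) (hdeg : ∀ l, (i l : ℤ) = e l + n)
    (hcover : ∀ y : ProjectiveSpectrum 𝒜, f ∉ y.asHomogeneousIdeal →
      ∃ l, g l ∉ y.asHomogeneousIdeal)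
    (hcompat : ∀ l l', ∃ N : ℕ, (g l * g l') ^ N • (g l' • m l - g l • m l') = 0) :
    ∃ (K j : ℕ) (m' : M), m' ∈ ℳ j ∧ (j : ℤ) = K * d + n ∧
      ∀ l, ∃ P : ℕ, g l ^ P • (f ^ K • m l) = g l ^ P • (g l • m') := by
  classical
  choose Nf hNf using hcompat
  let N : ℕ := Finset.univ.sup (fun p : T × T => Nf p.1 p.2)
  have hN : ∀ l l', (g l * g l') ^ N • (g l' • m l - g l • m l') = 0 := by
    intro l l'
    have hle : Nf l l' ≤ N := Finset.le_sup (f := fun p : T × T => Nf p.1 p.2)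
      (Finset.mem_univ (l, l'))
    rw [← Nat.sub_add_cancel hle, pow_add, mul_smul, hNf, smul_zero]
  let G : T → A := fun l => g l ^ (N + 1)
  let μ : T → M := fun l => g l ^ N • m l
  have hG : ∀ l, G l ∈ 𝒜 ((N + 1) * e l) := fun l => pow_mem_graded' 𝒜 (hg l) (N + 1)
  have hμ : ∀ l, μ l ∈ ℳ (N * e l + i l) := fun l =>
    SetLike.GradedSMul.smul_mem (pow_mem_graded' 𝒜 (hg l) N) (hm l)
  have hGμ : ∀ l l', G l' • μ l = G l • μ l' := by
    intro l l'
    have h0 := hN l l'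
    rw [smul_sub, sub_eq_zero] at h0
    have h1 : G l' • μ l = (g l * g l') ^ N • (g l' • m l) := by
      simp only [G, μ, smul_smul]
      congr 1
      ring
    have h2 : G l • μ l' = (g l * g l') ^ N • (g l • m l') := by
      simp only [G, μ, smul_smul]
      congr 1
      ring
    rw [h1, h2, h0]
  have hrad : f ∈ (Ideal.span (Set.range G)).radical := by
    refine mem_radical_of_forall 𝒜 (Ideal.homogeneous_span 𝒜 _ ?_) hd hf ?_
    · rintro _ ⟨l, rfl⟩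
      exact ⟨_, hG l⟩
    · intro y hy hle
      obtain ⟨l, hl⟩ := hcover y hy
      exact hl (y.isPrime.mem_of_pow_mem (N + 1) (hle (Ideal.subset_span ⟨l, rfl⟩)))
  obtain ⟨K₀, hK₀⟩ := hrad
  let K : ℕ := n.natAbs + K₀
  have hK : f ^ K ∈ Ideal.span (Set.range G) := by
    show f ^ (n.natAbs + K₀) ∈ _
    rw [pow_add]
    exact Ideal.mul_mem_left _ _ hK₀
  obtain ⟨a, ha⟩ := Ideal.mem_span_range_iff_exists_fun.1 hK
  obtain ⟨b, hb1, hb2, hb3⟩ := homogenize 𝒜 G (fun l => (N + 1) * e l) hG hf K a ha.symm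
  have hKd : n.natAbs ≤ K * d := by
    calc n.natAbs ≤ K := Nat.le_add_right _ _
      _ ≤ K * d := Nat.le_mul_of_pos_right _ hd
  refine ⟨K, (K * d + n).toNat, ∑ l, b l • μ l, ?_, ?_, ?_⟩
  · refine Submodule.sum_mem _ fun l _ => ?_
    by_cases h : K * d < (N + 1) * e l
    · rw [hb2 l h, zero_smul]
      exact zero_mem _
    · have h3 := SetLike.GradedSMul.smul_mem (hb1 l) (hμ l)
      have h4 : (K * d - (N + 1) * e l) + (N * e l + i l) = (K * d + n).toNat := by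
        have h5 : (N + 1) * e l = N * e l + e l := by ring
        have h6 := hdeg l
        omega
      rw [← h4]
      exact h3
  · omega
  · intro l'
    refine ⟨N, ?_⟩
    have h1 : g l' ^ N • (g l' • ∑ l, b l • μ l) = G l' • ∑ l, b l • μ l := by
      rw [smul_smul, ← pow_succ]
    rw [h1, Finset.smul_sum]
    calc g l' ^ N • (f ^ K • m l') = f ^ K • μ l' := smul_comm _ _ _
      _ = (∑ l, b l * G l) • μ l' := by rw [hb3]
      _ = ∑ l, (b l * G l) • μ l' := Finset.sum_smul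
      _ = ∑ l, G l' • b l • μ l := Finset.sum_congr rfl fun l _ => by
          rw [mul_smul, ← hGμ l l', smul_comm]

end Groth.Agent.Lib.Helper55.ProjGlue
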