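import Mathlib.RingTheory.MvPolynomial.Ideal
import Mathlib.RingTheory.MvPolynomial.Basic
import Mathlib.Algebra.MvPolynomial.Rename
import Mathlib.RingTheory.Ideal.Operations

set_option autoImplicit false

namespace Groth.Agent.Lib.Helper55.Quadric

open MvPolynomial

variable {K : Type*} [Field K]

noncomputable abbrev hpoly (G₂ G₃ G₄ : MvPolynomial (Fin 2) K) : MvPolynomial (Fin 3) K :=
  rename (Fin.castSucc : Fin 2 → Fin 3) G₂ * X (2 : Fin 3) ^ 2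
    + 2 * rename (Fin.castSucc : Fin 2 → Fin 3) G₃ * X (2 : Fin 3)
    + rename (Fin.castSucc : Fin 2 → Fin 3) G₄

lemma two_notin_range : (2 : Fin 3) ∉ Set.range (Fin.castSucc : Fin 2 → Fin 3) := by
  rintro ⟨i, hi⟩
  fin_cases i <;> simp [Fin.ext_iff] at hi

lemma mapDomain_two (x : Fin 2 →₀ ℕ) : (x.mapDomain (Fin.castSucc : Fin 2 → Fin 3)) 2 = 0 :=
  Finsupp.mapDomain_of_notMem_range _ _ two_notin_range

lemma coeff_hpoly_mapDomain (G₂ G₃ G₄ : MvPolynomial (Fin 2) K) (x : Fin 2 →₀ ℕ) :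
    coeff (x.mapDomain (Fin.castSucc : Fin 2 → Fin 3)) (hpoly G₂ G₃ G₄) = coeff x G₄ := by
  classical
  have h2 := mapDomain_two x
  rw [hpoly, coeff_add, coeff_add, coeff_rename_mapDomain _ (Fin.castSucc_injective 2),
    X_pow_eq_monomial, coeff_mul_monomial', coeff_mul_X']
  rw [if_neg, if_neg]
  · simp
  · simp [h2]
  · rw [Finsupp.single_le_iff]
    simp [h2]

lemma coeff_hpoly_single (G₂ G₃ G₄ : MvPolynomial (Fin 2) K) :
    coeff (Finsupp.single (2 : Fin 3) 1) (hpoly G₂ G₃ G₄) = 2 * coeff 0 G₃ := by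
  classical
  have e1 : coeff (Finsupp.single (2 : Fin 3) 1)
      (rename (Fin.castSucc : Fin 2 → Fin 3) G₂ * X (2 : Fin 3) ^ 2) = 0 := by
    rw [X_pow_eq_monomial, coeff_mul_monomial', if_neg]
    rw [Finsupp.single_le_iff]
    simp
  have e2 : coeff (Finsupp.single (2 : Fin 3) 1)
      (2 * rename (Fin.castSucc : Fin 2 → Fin 3) G₃ * X (2 : Fin 3)) = 2 * coeff 0 G₃ := by
    have := coeff_mul_X (0 : Fin 3 →₀ ℕ) (2 : Fin 3)
      (2 * rename (Fin.castSucc : Fin 2 → Fin 3) G₃)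
    rw [zero_add] at this
    rw [this]
    have h0 : (0 : Fin 3 →₀ ℕ) = (0 : Fin 2 →₀ ℕ).mapDomain (Fin.castSucc : Fin 2 → Fin 3) := by
      simp
    have h2 : (2 : MvPolynomial (Fin 3) K) = C 2 := (map_ofNat (C (σ := Fin 3) (R := K)) 2).symm
    rw [h2, coeff_C_mul, h0, coeff_rename_mapDomain _ (Fin.castSucc_injective 2)]
  have e3 : coeff (Finsupp.single (2 : Fin 3) 1)
      (rename (Fin.castSucc : Fin 2 → Fin 3) G₄) = 0 := by
    apply coeff_rename_eq_zero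
    intro u hu
    exfalso
    have := congrArg (fun f => f (2 : Fin 3)) hu
    simp only [mapDomain_two, Finsupp.single_eq_same] at this
    omega
  rw [hpoly, coeff_add, coeff_add, e1, e2, e3]
  ring

lemma rename_mem_pow (n : ℕ) (G : MvPolynomial (Fin 2) K) (hG : G ∈ idealOfVars (Fin 2) K ^ n) :
    rename (Fin.castSucc : Fin 2 → Fin 3) G ∈ idealOfVars (Fin 3) K ^ n := by
  rw [mem_pow_idealOfVars_iff'] at hG ⊢
  intro x hx
  apply coeff_rename_eq_zero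
  intro u hu
  apply hG
  rw [← hu, Finsupp.degree_mapDomain] at hx
  exact hx

lemma X_mem (i : Fin 3) : (X i : MvPolynomial (Fin 3) K) ∈ idealOfVars (Fin 3) K :=
  Ideal.subset_span ⟨i, rfl⟩

lemma hpoly_mem_sq (G₂ G₃ G₄ : MvPolynomial (Fin 2) K) (h3 : G₃ ∈ idealOfVars (Fin 2) K)
    (h4 : G₄ ∈ idealOfVars (Fin 2) K ^ 2) : hpoly G₂ G₃ G₄ ∈ idealOfVars (Fin 3) K ^ 2 := by
  refine Ideal.add_mem _ (Ideal.add_mem _ ?_ ?_) (rename_mem_pow 2 G₄ h4)
  · exact Ideal.mul_mem_left _ _ (Ideal.pow_mem_pow (X_mem 2) 2)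
  · have h3' : rename (Fin.castSucc : Fin 2 → Fin 3) G₃ ∈ idealOfVars (Fin 3) K := by
      have := rename_mem_pow 1 G₃ (by rwa [pow_one])
      rwa [pow_one] at this
    rw [sq, mul_assoc]
    exact Ideal.mul_mem_left _ _ (Ideal.mul_mem_mul h3' (X_mem 2))

lemma mem_idealOfVars_iff {σ : Type*} (G : MvPolynomial σ K) :
    G ∈ idealOfVars σ K ↔ coeff 0 G = 0 := by
  have := mem_pow_idealOfVars_iff' (σ := σ) (R := K) 1 G
  rw [pow_one] at this
  rw [this]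
  constructor
  · intro h
    exact h 0 (by simp)
  · intro h x hx
    have : x = 0 := by
      rw [Nat.lt_one_iff] at hx
      exact (Finsupp.degree_eq_zero_iff x).1 hx
    rw [this]
    exact h

lemma coeff_zero_hpoly (G₂ G₃ G₄ : MvPolynomial (Fin 2) K) :
    coeff 0 (hpoly G₂ G₃ G₄) = coeff 0 G₄ := by
  have := coeff_hpoly_mapDomain G₂ G₃ G₄ 0
  rwa [Finsupp.mapDomain_zero] at this

lemma mem_sq_of_mul_mem_sq (G₂ G₄ : MvPolynomial (Fin 2) K) (hc₂ : coeff 0 G₂ ≠ 0)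
    (hG₄ : G₄ ∈ idealOfVars (Fin 2) K) (h : G₂ * G₄ ∈ idealOfVars (Fin 2) K ^ 2) :
    G₄ ∈ idealOfVars (Fin 2) K ^ 2 := by
  have h1 : G₂ - C (coeff 0 G₂) ∈ idealOfVars (Fin 2) K := by
    rw [mem_idealOfVars_iff]
    simp
  have h2 : (G₂ - C (coeff 0 G₂)) * G₄ ∈ idealOfVars (Fin 2) K ^ 2 := by
    rw [sq]
    exact Ideal.mul_mem_mul h1 hG₄
  have h3 : C (coeff 0 G₂) * G₄ ∈ idealOfVars (Fin 2) K ^ 2 := by
    have : C (coeff 0 G₂) * G₄ = G₂ * G₄ - (G₂ - C (coeff 0 G₂)) * G₄ := by ring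
    rw [this]
    exact Ideal.sub_mem _ h h2
  have h4 : G₄ = C (coeff 0 G₂)⁻¹ * (C (coeff 0 G₂) * G₄) := by
    rw [← mul_assoc, ← C_mul, inv_mul_cancel₀ hc₂, C_1, one_mul]
  rw [h4]
  exact Ideal.mul_mem_left _ _ h3

lemma mem_of_hpoly_mem_sq (G₂ G₃ G₄ : MvPolynomial (Fin 2) K) (h2 : (2 : K) ≠ 0)
    (h : hpoly G₂ G₃ G₄ ∈ idealOfVars (Fin 3) K ^ 2) :
    G₃ ∈ idealOfVars (Fin 2) K ∧ G₄ ∈ idealOfVars (Fin 2) K ^ 2 := by
  rw [mem_pow_idealOfVars_iff'] at h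
  constructor
  · rw [mem_idealOfVars_iff]
    have := h (Finsupp.single (2 : Fin 3) 1) (by simp)
    rw [coeff_hpoly_single] at this
    exact (mul_eq_zero.1 this).resolve_left h2
  · rw [mem_pow_idealOfVars_iff']
    intro x hx
    rw [← coeff_hpoly_mapDomain G₂ G₃ G₄ x]
    apply h
    rwa [Finsupp.degree_mapDomain]

end Groth.Agent.Lib.Helper55.Quadric
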