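import Mathlib.AlgebraicGeometry.Fiber
import Mathlib.AlgebraicGeometry.IdealSheaf.Subscheme
import Mathlib.AlgebraicGeometry.Properties
import Mathlib.RingTheory.LocalProperties.Reduced
import Mathlib.RingTheory.Ideal.MinimalPrime.Localization
import Mathlib.RingTheory.LocalRing.ResidueField.Fiber

set_option autoImplicit false
universe u

namespace Groth.Agent.Lib.Helper55

open TensorProduct

lemma exists_mul_pow_eq_zero_of_mem_minimalPrimes {R : Type*} [CommRing R] (p : Ideal R)
    [p.IsPrime] (hp : p ∈ minimalPrimes R) {r : R} (hr : r ∈ p) :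
    ∃ t ∉ p, ∃ n : ℕ, t * r ^ n = 0 := by
  have hsub : Subsingleton (PrimeSpectrum (Localization.AtPrime p)) :=
    IsLocalization.subsingleton_primeSpectrum_of_mem_minimalPrimes _ hp (Localization.AtPrime p)
  have hnil : IsNilpotent (algebraMap R (Localization.AtPrime p) r) := by
    rw [← mem_nilradical, nilradical_eq_sInf, Ideal.mem_sInf]
    intro q hq
    have hq' : q.IsPrime := hq
    have hmax : (IsLocalRing.maximalIdeal (Localization.AtPrime p)).IsPrime := inferInstance
    have : (⟨q, hq'⟩ : PrimeSpectrum (Localization.AtPrime p)) = ⟨_, hmax⟩ := Subsingleton.elim _ _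
    have hqe : q = IsLocalRing.maximalIdeal (Localization.AtPrime p) := congrArg (·.asIdeal) this
    rw [hqe, ← Localization.AtPrime.map_eq_maximalIdeal]
    exact Ideal.mem_map_of_mem _ hr
  obtain ⟨n, hn⟩ := hnil
  rw [← map_pow, IsLocalization.map_eq_zero_iff p.primeCompl] at hn
  obtain ⟨t, ht⟩ := hn
  exact ⟨t.1, t.2, n, ht⟩

lemma isReduced_fiber_of_minimal {R S : Type*} [CommRing R] [CommRing S] [Algebra R S]
    [IsReduced S] (p : Ideal R) [p.IsPrime] (hp : p ∈ minimalPrimes R) :
    IsReduced (p.Fiber S) := by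
  let Sp := Localization (Algebra.algebraMapSubmonoid S p.primeCompl)
  let I : Ideal Sp := (p.map (algebraMap R S)).map (algebraMap S Sp)
  have hI : I = ⊥ := by
    show (p.map (algebraMap R S)).map (algebraMap S Sp) = ⊥
    rw [Ideal.map_map, eq_bot_iff, Ideal.map_le_iff_le_comap]
    intro r hr
    rw [Ideal.mem_comap, Ideal.mem_bot]
    obtain ⟨t, ht, n, htn⟩ := exists_mul_pow_eq_zero_of_mem_minimalPrimes p hp hr
    have hunit : IsUnit (algebraMap S Sp (algebraMap R S t)) :=
      IsLocalization.map_units Sp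
        (⟨algebraMap R S t, Algebra.mem_algebraMapSubmonoid_of_mem ⟨t, ht⟩⟩ :
          Algebra.algebraMapSubmonoid S p.primeCompl)
    have h0 : ((algebraMap S Sp).comp (algebraMap R S)) t *
        (((algebraMap S Sp).comp (algebraMap R S)) r) ^ n = 0 := by
      rw [← map_pow, ← map_mul, htn, map_zero]
    have h1 : (((algebraMap S Sp).comp (algebraMap R S)) r) ^ n = 0 :=
      hunit.mul_right_eq_zero.1 h0
    exact IsReduced.eq_zero _ ⟨n, h1⟩
  letI : Algebra S (p.Fiber S) := Algebra.TensorProduct.rightAlgebra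
  have e := Ideal.Fiber.algEquivAux₁ (S := S) p
  have hred : IsReduced (Sp ⧸ I) := by
    rw [← Ideal.isRadical_iff_quotient_reduced, hI]
    exact Ideal.isRadical_bot
  exact isReduced_of_injective e.toRingEquiv.toRingHom e.injective

end Groth.Agent.Lib.Helper55

namespace Groth.Agent.Lib.Helper55

open AlgebraicGeometry CategoryTheory Limits

lemma isReduced_fiber_SpecMap {R S : CommRingCat.{u}} (φ : R ⟶ S) [_root_.IsReduced S]
    (p : Spec R) (hp : p.asIdeal ∈ minimalPrimes R) :
    AlgebraicGeometry.IsReduced ((Spec.map φ).fiber p) := by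
  algebraize [φ.hom]
  have hred : _root_.IsReduced (p.asIdeal.Fiber S) := isReduced_fiber_of_minimal p.asIdeal hp
  let e := Spec.fiberToSpecResidueFieldIso R S p
  have h2 : AlgebraicGeometry.IsReduced (Spec (.of (p.asIdeal.Fiber S))) := inferInstance
  let e' : (Spec.map φ).fiber p ≅ Spec (.of (p.asIdeal.Fiber S)) := Arrow.leftFunc.mapIso e
  exact isReduced_of_isOpenImmersion e'.hom

lemma isReduced_fiber_of_affine_target {X : Scheme.{u}} {R : CommRingCat.{u}} (f : X ⟶ Spec R)
    [AlgebraicGeometry.IsReduced X] (p : Spec R) (hp : p.asIdeal ∈ minimalPrimes R) :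
    AlgebraicGeometry.IsReduced (f.fiber p) := by
  let 𝒰 := X.affineOpenCover
  let 𝒱 : (f.fiber p).OpenCover :=
    Scheme.Pullback.openCoverOfLeft 𝒰.openCover f ((Spec R).fromSpecResidueField p)
  have h𝒱 : ∀ i : 𝒰.I₀, AlgebraicGeometry.IsReduced ((𝒰.f i ≫ f).fiber p) := by
    intro i
    have hred : AlgebraicGeometry.IsReduced (Spec (𝒰.X i)) :=
      isReduced_of_isOpenImmersion (𝒰.f i)
    have hred' : _root_.IsReduced (𝒰.X i) := (affine_isReduced_iff _).1 hred
    obtain ⟨φ, hφ⟩ := Spec.map_surjective (𝒰.f i ≫ f)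
    rw [← hφ]
    exact isReduced_fiber_SpecMap φ p hp
  have h𝒱' : ∀ i, AlgebraicGeometry.IsReduced (𝒱.X i) := h𝒱
  exact AlgebraicGeometry.IsReduced.of_openCover _ 𝒱

lemma isReduced_of_isIso_aux {A B : Scheme.{u}} (m : A ⟶ B) (hm : IsIso m)
    (hA : AlgebraicGeometry.IsReduced A) : AlgebraicGeometry.IsReduced B :=
  isReduced_of_isOpenImmersion (inv m)

lemma isReduced_fiber_of_generic {X Y : Scheme.{u}} (f : X ⟶ Y) [AlgebraicGeometry.IsReduced X]
    (η : Y) (hη : closure {η} ∈ irreducibleComponents Y) :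
    AlgebraicGeometry.IsReduced (f.fiber η) := by
  obtain ⟨i, p, rfl⟩ := Y.affineCover.exists_eq η
  have hpb := isPullback_fiberToSpecResidueField_of_isPullback
    (IsPullback.of_hasPullback f (Y.affineCover.f i)) p
  have hiso := hpb.isIso_fst_of_isIso
  have hP : AlgebraicGeometry.IsReduced (pullback f (Y.affineCover.f i)) :=
    isReduced_of_isOpenImmersion (pullback.fst f (Y.affineCover.f i))
  have hmin : p.asIdeal ∈ minimalPrimes _ := by
    have hx : closure {p} ∈ irreducibleComponents (Y.affineCover.X i) := by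
      rw [(Y.affineCover.f i).isOpenEmbedding.closure_eq_preimage_closure_image,
        Set.image_singleton]
      exact preimage_mem_irreducibleComponents hη (Y.affineCover.f i).isOpenEmbedding
        ⟨Y.affineCover.f i p, subset_closure rfl, _, rfl⟩
    rwa [← PrimeSpectrum.vanishingIdeal_singleton,
      PrimeSpectrum.vanishingIdeal_mem_minimalPrimes]
  have hF := isReduced_fiber_of_affine_target (pullback.snd f (Y.affineCover.f i)) p hmin
  exact isReduced_of_isIso_aux _ hiso hF

lemma isReduced_nilradical_subscheme (X : Scheme.{u}) :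
    AlgebraicGeometry.IsReduced X.nilradical.subscheme := by
  have h : ∀ U, AlgebraicGeometry.IsReduced (X.nilradical.subschemeCover.openCover.X U) := by
    intro (U : X.affineOpens)
    show AlgebraicGeometry.IsReduced (Spec (.of (Γ(X, U) ⧸ X.nilradical.ideal U)))
    have : _root_.IsReduced (Γ(X, U) ⧸ X.nilradical.ideal U) := by
      rw [← Ideal.isRadical_iff_quotient_reduced]
      exact Ideal.radical_isRadical _
    infer_instance
  exact AlgebraicGeometry.IsReduced.of_openCover _ X.nilradical.subschemeCover.openCover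

end Groth.Agent.Lib.Helper55
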